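import Groth.Agent.Synt29.ConormalStalk
import Groth.Agent.Synt29.RibbonClosed
import Groth.Agent.H9Misc.SectCmp
import Groth.Agent.ZClosLib.ColimSections

/-!
Square-zero closed immersions: the class map of the ideal is bijective on sections, and, when the cotangent sequence is
short exact, functions upstairs are pairs of a function and a differential downstairs.
-/

set_option autoImplicit false

universe u

open CategoryTheory CategoryTheory.Limits AlgebraicGeometry TopologicalSpace Opposite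

set_option backward.isDefEq.respectTransparency false
set_option backward.isDefEq.respectTransparency.types false

namespace Groth.Agent.Ribbon29

open Synt29.OmegaStalk Synt29.ConormalStalk Groth.Agent.KFlatLib

variable {D C : Scheme.{u}} (i : D ⟶ C) [IsClosedImmersion i] (h2 : i.ker ^ 2 = ⊥)

include h2

theorem isHomeomorph : IsHomeomorph i.base :=
  isHomeomorph_iff_isEmbedding_surjective.mpr ⟨i.isEmbedding, Synt29.RibbonClosed.surjective_of_sq i h2⟩

omit h2 in
theorem exists_pre (T : D.Opens) : ∃ T' : C.Opens, i ⁻¹ᵁ T' = T := by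
  obtain ⟨T', hT', hT⟩ := i.isEmbedding.isInducing.isOpen_iff.mp T.2
  exact ⟨⟨T', hT'⟩, Opens.ext hT⟩

theorem le_of_pre_le {W U : C.Opens} (h : i ⁻¹ᵁ W ≤ i ⁻¹ᵁ U) : W ≤ U := fun y hy => by
  obtain ⟨x, rfl⟩ := Synt29.RibbonClosed.surjective_of_sq i h2 y
  exact h hy

/-- the ideal kills its stalks -/
theorem smul_eq_zero (x : D) (c : C.presheaf.stalk (i x)) (hc : i.stalkMap x c = 0) (m : St (I i) (i x)) :
    c • m = 0 := by
  obtain ⟨a, ha⟩ := rep_exists i (i x) m
  have h := rep_smul i ha c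
  rw [Synt29.RibbonClosed.mul_eq_zero_of_stalkMap i h2 x c a hc (rep_mem i ha)] at h
  exact rep_inj i h (rep_zero i (i x))

theorem unit1_injective (x : D) : Function.Injective (unit1 i x) := by
  let _ := (i.stalkMap x).hom.toAlgebra
  let σ : D.presheaf.stalk x → C.presheaf.stalk (i x) := Function.surjInv (i.stalkMap_surjective x)
  have hσ : ∀ b, i.stalkMap x (σ b) = b := Function.surjInv_eq (i.stalkMap_surjective x)
  have key : ∀ (b c : C.presheaf.stalk (i x)) (m : St (I i) (i x)), i.stalkMap x b = i.stalkMap x c →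
      b • m = c • m := fun b c m h => by
    rw [← sub_eq_zero, ← sub_smul]
    exact smul_eq_zero i h2 x _ (by rw [map_sub, h, sub_self]) m
  let B : D.presheaf.stalk x →ₗ[C.presheaf.stalk (i x)]
      (St (I i) (i x) →ₗ[C.presheaf.stalk (i x)] St (I i) (i x)) :=
    LinearMap.mk₂ _ (fun b m => σ b • m)
      (fun b b' m => by rw [← add_smul]; exact key _ _ m (by rw [map_add, hσ, hσ, hσ]))
      (fun c b m => by rw [smul_smul]; exact key _ _ m (by rw [map_mul, hσ, hσ, Algebra.smul_def]; rfl))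
      (fun b m m' => smul_add _ _ _) (fun c b m => smul_comm _ _ _)
  intro m m' h
  have h' := congrArg (TensorProduct.lift B) h
  have e : ∀ m, TensorProduct.lift B (unit1 i x m) = m := fun m => by
    show σ 1 • m = m
    rw [key (σ 1) 1 m (by rw [hσ, map_one]), one_smul]
  rwa [e, e] at h'

theorem conormalSect_injective (U : C.Opens) : Function.Injective (OmegaSh.conormalSect i U) := by
  intro k k' h
  refine ZClosLib.section_ext (I i) k k' fun y hy => ?_
  obtain ⟨x, rfl⟩ := Synt29.RibbonClosed.surjective_of_sq i h2 y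
  have h1 := congrArg (fun z => (stalkPullbackIso i x).hom.app (I i) (gm (Omega.conormal i) (U := i ⁻¹ᵁ U) (x := x) hy z)) h
  erw [stalkPullbackIso_gm i (I i) x hy k, stalkPullbackIso_gm i (I i) x hy k'] at h1
  exact unit1_injective i h2 x h1

theorem conormalSect_surjective (U : C.Opens) : Function.Surjective (OmegaSh.conormalSect i U) := by
  intro z
  have hloc : ∀ y : U, ∃ (W : C.Opens) (hWU : W ≤ U) (_ : (y : C) ∈ W) (k : Γ(I i, W)),
      OmegaSh.conormalSect i W k = (Omega.conormal i).presheaf.map (homOfLE fun _ h => hWU h).op z := by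
    intro y
    obtain ⟨x, hx⟩ := Synt29.RibbonClosed.surjective_of_sq i h2 y
    have hxU : x ∈ i ⁻¹ᵁ U := by show i x ∈ U; rw [hx]; exact y.2
    obtain ⟨W, hxW, k, hk⟩ := exists_conormalSect i x (gm (Omega.conormal i) hxU z)
    obtain ⟨T, h₁, h₂, hxT, he⟩ := ZClosLib.exists_res_eq_of_germ_eq (Omega.conormal i) hxW hxU _ _ hk
    obtain ⟨T', rfl⟩ := exists_pre i T
    refine ⟨T', le_of_pre_le i h2 h₂, hx ▸ hxT, (I i).presheaf.map (homOfLE (le_of_pre_le i h2 h₁)).op k, ?_⟩
    refine Eq.trans ?_ he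
    exact congr($(((Scheme.Modules.pullbackPushforwardAdjunction i).unit.app (I i)).mapPresheaf.naturality
      (homOfLE (le_of_pre_le i h2 h₁)).op) k)
  choose W hW hyW k hk using hloc
  have hnat : ∀ {A B : C.Opens} (h : A ≤ B) (s : Γ(I i, B)),
      OmegaSh.conormalSect i A ((I i).presheaf.map (homOfLE h).op s) =
        (Omega.conormal i).presheaf.map (homOfLE fun _ hx => h hx).op (OmegaSh.conormalSect i B s) := fun h s =>
    congr($(((Scheme.Modules.pullbackPushforwardAdjunction i).unit.app (I i)).mapPresheaf.naturality (homOfLE h).op) s)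
  obtain ⟨s, hs⟩ := ZClosLib.exists_glue (I i) W hW (fun y hy => ⟨⟨y, hy⟩, hyW ⟨y, hy⟩⟩) k fun a b => by
    refine conormalSect_injective i h2 _ ?_
    rw [ZClosLib.res, ZClosLib.res, hnat, hnat, hk, hk, ← CategoryTheory.comp_apply, ← CategoryTheory.comp_apply,
      ← Functor.map_comp, ← Functor.map_comp]
    rfl
  refine ⟨s, ZClosLib.res_eq_of_cover (Omega.conormal i) (fun y : U => i ⁻¹ᵁ W y) (fun y _ h => hW y h)
    (fun x hx => ⟨⟨i x, hx⟩, hyW ⟨i x, hx⟩⟩) _ _ fun y => ?_⟩
  rw [ZClosLib.res, ← hnat (hW y) s]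
  exact (congrArg (OmegaSh.conormalSect i (W y)) (hs y)).trans (hk y)

variable {S : Scheme.{u}} {p : C ⟶ S} {Ω₁ : C.Modules} {d₁ : OmegaSh.Der p Ω₁}
  {Ω₂ : D.Modules} {d₂ : OmegaSh.Der (i ≫ p) Ω₂}
  {φ : Omega.conormal i ⟶ (Scheme.Modules.pullback i).obj Ω₁} (hφ : OmegaSh.IsConormalDiff i d₁ φ)
  {c : (Scheme.Modules.pullback i).obj Ω₁ ⟶ Ω₂} (hc : OmegaSh.IsDiffCompat i d₁ d₂ c)
  {hw : φ ≫ c = 0} (hS : (ShortComplex.mk φ c hw).ShortExact)

omit h2 in
/-- the class of the differential of a function -/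
noncomputable abbrev dd (d₁ : OmegaSh.Der p Ω₁) (U : C.Opens) : Γ(C, U) →+ Γ((Scheme.Modules.pullback i).obj Ω₁, i ⁻¹ᵁ U) :=
  (OmegaSh.pullSect i Ω₁ U).hom.comp (d₁.app U)

omit h2 in
theorem dd_res (d₁ : OmegaSh.Der p Ω₁) {A B : C.Opens} (h : A ≤ B) (a : Γ(C, B)) :
    dd i d₁ A (C.presheaf.map (homOfLE h).op a) =
      ((Scheme.Modules.pullback i).obj Ω₁).presheaf.map (homOfLE fun _ hx => h hx).op (dd i d₁ B a) := by
  show OmegaSh.pullSect i Ω₁ A (d₁.app A _) = _
  rw [app_res]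
  exact congr($(((Scheme.Modules.pullbackPushforwardAdjunction i).unit.app Ω₁).mapPresheaf.naturality (homOfLE h).op) (d₁.app B a))

omit h2 in
theorem app_res_le {A B : C.Opens} (h : A ≤ B) (a : Γ(C, B)) :
    i.app A (C.presheaf.map (homOfLE h).op a) = D.presheaf.map (homOfLE fun _ hx => h hx).op (i.app B a) :=
  congr($(i.naturality (homOfLE h).op) a)

include hφ hS in
/-- a function is determined by its restriction and its differential -/
theorem pair_injective (U : C.Opens) (a a' : Γ(C, U)) (h1 : i.app U a = i.app U a')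
    (h3 : dd i d₁ U a = dd i d₁ U a') : a = a' := by
  obtain ⟨k, hk⟩ := OmegaUniv.exists_idealSect_of_app_eq_zero i U (a - a') (by rw [map_sub, h1, sub_self])
  have h4 : φ.app (i ⁻¹ᵁ U) (OmegaSh.conormalSect i U k) = 0 := by
    rw [hφ U k, hk]
    show dd i d₁ U (a - a') = 0
    rw [map_sub, h3, sub_self]
  haveI : Mono φ := hS.mono_f
  have h5 : OmegaSh.conormalSect i U k = 0 := QCoh.app_injective φ _ (h4.trans (map_zero _).symm)
  have h6 : k = 0 := conormalSect_injective i h2 U (h5.trans (map_zero _).symm)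
  rw [← sub_eq_zero, ← hk, h6, map_zero]

include hφ hc hS in
/-- every pair comes from a function -/
theorem pair_surjective (U : C.Opens) (b : Γ(D, i ⁻¹ᵁ U)) (ω : Γ((Scheme.Modules.pullback i).obj Ω₁, i ⁻¹ᵁ U))
    (h : c.app (i ⁻¹ᵁ U) ω = d₂.app (i ⁻¹ᵁ U) b) : ∃ a, i.app U a = b ∧ dd i d₁ U a = ω := by
  have hloc : ∀ y : U, ∃ (W : C.Opens) (hWU : W ≤ U) (_ : (y : C) ∈ W) (a : Γ(C, W)),
      i.app W a = D.presheaf.map (homOfLE fun _ hx => hWU hx).op b ∧
      dd i d₁ W a = ((Scheme.Modules.pullback i).obj Ω₁).presheaf.map (homOfLE fun _ hx => hWU hx).op ω := by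
    intro y
    obtain ⟨x, hx⟩ := Synt29.RibbonClosed.surjective_of_sq i h2 y
    have hxU : x ∈ i ⁻¹ᵁ U := by show i x ∈ U; rw [hx]; exact y.2
    obtain ⟨a₀, ha₀⟩ := i.stalkMap_surjective x (D.presheaf.germ _ x hxU b)
    obtain ⟨W₀, hxW₀, a₁, rfl⟩ := C.presheaf.exists_germ_eq (x := i x) a₀
    rw [Scheme.Hom.germ_stalkMap_apply] at ha₀
    obtain ⟨T, hxT, i₁, i₂, he⟩ := D.presheaf.germ_eq x _ hxU _ _ ha₀
    obtain ⟨T', rfl⟩ := exists_pre i T
    have hT0 : T' ≤ W₀ := le_of_pre_le i h2 i₁.le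
    have hTU : T' ≤ U := le_of_pre_le i h2 i₂.le
    let a₂ := C.presheaf.map (homOfLE hT0).op a₁
    have hb₂ : i.app T' a₂ = D.presheaf.map (homOfLE fun _ hx => hTU hx).op b := by
      rw [app_res_le i hT0]
      exact he
    have hz : c.app (i ⁻¹ᵁ T')
        (((Scheme.Modules.pullback i).obj Ω₁).presheaf.map (homOfLE fun _ hx => hTU hx).op ω - dd i d₁ T' a₂) = 0 := by
      rw [map_sub, sub_eq_zero]
      refine Eq.trans ?_ (hc T' a₂).symm
      rw [hb₂, app_res Ω₂ d₂]
      exact (congr($(c.mapPresheaf.naturality (homOfLE fun _ hx => hTU hx).op) ω)).trans (congrArg _ h)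
    obtain ⟨T₂, hT₂, hxT₂, l, hl⟩ := H9Misc.SectCmp.app_exact hS.exact _ _ hz x hxT
    obtain ⟨W, rfl⟩ := exists_pre i T₂
    obtain ⟨k, hk⟩ := conormalSect_surjective i h2 W l
    have hWT : W ≤ T' := le_of_pre_le i h2 hT₂
    refine ⟨W, hWT.trans hTU, hx ▸ hxT₂,
      C.presheaf.map (homOfLE hWT).op a₂ + OmegaSh.idealSect i.ker W k, ?_, ?_⟩
    · rw [map_add, OmegaUniv.app_idealSect, add_zero, app_res_le i hWT, hb₂, ← CategoryTheory.comp_apply,
        ← Functor.map_comp]
      rfl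
    · have h7 : dd i d₁ W (OmegaSh.idealSect i.ker W k) = φ.app (i ⁻¹ᵁ W) l := by
        rw [← hk, hφ W k]
        rfl
      rw [map_add, h7, hl, QCoh.rs, map_sub, dd_res i d₁ hWT, ← add_sub_assoc, add_comm, add_sub_cancel_right,
        ← CategoryTheory.comp_apply, ← Functor.map_comp]
      rfl
  choose W hW hyW a ha hda using hloc
  have hcomp : TopCat.Presheaf.IsCompatible C.presheaf W a := fun y y' => by
    refine pair_injective i h2 hφ hS _ _ _ ?_ ?_
    · erw [app_res_le i inf_le_left, app_res_le i inf_le_right, ha, ha, ← CategoryTheory.comp_apply,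
        ← CategoryTheory.comp_apply, ← Functor.map_comp, ← Functor.map_comp]
      rfl
    · erw [dd_res i d₁ inf_le_left, dd_res i d₁ inf_le_right, hda, hda, ← CategoryTheory.comp_apply,
        ← CategoryTheory.comp_apply, ← Functor.map_comp, ← Functor.map_comp]
      rfl
  obtain ⟨a', ha', -⟩ := C.sheaf.existsUnique_gluing' W U (fun y => homOfLE (hW y))
    (fun y hy => Opens.mem_iSup.mpr ⟨⟨y, hy⟩, hyW ⟨y, hy⟩⟩) a hcomp
  refine ⟨a', ?_, ?_⟩
  · refine D.sheaf.eq_of_locally_eq' (fun y : U => i ⁻¹ᵁ W y) (i ⁻¹ᵁ U) (fun y => homOfLE fun _ hx => hW y hx)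
      (fun x hx => Opens.mem_iSup.mpr ⟨⟨i x, hx⟩, hyW ⟨i x, hx⟩⟩) _ _ fun y => ?_
    refine (app_res_le i (hW y) a').symm.trans ((congrArg _ (ha' y)).trans (ha y))
  · refine ZClosLib.res_eq_of_cover _ (fun y : U => i ⁻¹ᵁ W y) (fun y _ h => hW y h)
      (fun x hx => ⟨⟨i x, hx⟩, hyW ⟨i x, hx⟩⟩) _ _ fun y => ?_
    refine (dd_res i d₁ (hW y) a').symm.trans ((congrArg _ (ha' y)).trans (hda y))

end Groth.Agent.Ribbon29
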