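import Groth.Agent.Ribbon29.Sq

/-!
Extensions of a morphism along a square-zero thickening with short exact cotangent sequence.
-/

set_option autoImplicit false

universe u

open CategoryTheory CategoryTheory.Limits AlgebraicGeometry TopologicalSpace Opposite

set_option backward.isDefEq.respectTransparency false
set_option backward.isDefEq.respectTransparency.types false

noncomputable section

namespace Groth.Agent.Ribbon29

open Synt29.OmegaStalk

variable {D C X S : Scheme.{u}} (i : D ⟶ C) [IsClosedImmersion i]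
  {p : C ⟶ S} {Ω₁ : C.Modules} (d₁ : OmegaSh.Der p Ω₁)
  {Ω₂ : D.Modules} {d₂ : OmegaSh.Der (i ≫ p) Ω₂}
  {pX : X ⟶ S} {Ω₃ : X.Modules} {d₃ : OmegaSh.Der pX Ω₃}

omit [IsClosedImmersion i] in
theorem pullSect_smul (M : C.Modules) (U : C.Opens) (a : Γ(C, U)) (m : Γ(M, U)) :
    OmegaSh.pullSect i M U (a • m) = i.app U a • OmegaSh.pullSect i M U m :=
  ((Scheme.Modules.pullbackPushforwardAdjunction i).unit.app M).app_smul a m

theorem dd_mul (U : C.Opens) (a b : Γ(C, U)) :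
    dd i d₁ U (a * b) = i.app U a • dd i d₁ U b + i.app U b • dd i d₁ U a := by
  show OmegaSh.pullSect i Ω₁ U (d₁.app U (a * b)) = _
  rw [app_mul Ω₁ d₁, map_add, pullSect_smul, pullSect_smul]
  rfl

theorem dd_one (U : C.Opens) : dd i d₁ U 1 = 0 := by
  have h := dd_mul i d₁ U 1 1
  rw [mul_one, show i.app U 1 = 1 from map_one _, one_smul] at h
  exact left_eq_add.1 h

theorem dd_base (U : C.Opens) (T : S.Opens) (h : U ≤ p ⁻¹ᵁ T) (t : Γ(S, T)) :
    dd i d₁ U (p.appLE T U h t) = 0 := by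
  show OmegaSh.pullSect i Ω₁ U (d₁.app U (C.presheaf.map (homOfLE h).op (p.app T t))) = 0
  rw [app_res, app_base, map_zero, map_zero]

theorem exists_slope (g : C ⟶ X) (hg : g ≫ pX = p) (hd₃ : OmegaSh.IsUniversal d₃)
    {c : (Scheme.Modules.pullback i).obj Ω₁ ⟶ Ω₂} (hc : OmegaSh.IsDiffCompat i d₁ d₂ c)
    (df : (Scheme.Modules.pullback (i ≫ g)).obj Ω₃ ⟶ Ω₂) (hdf : OmegaSh.IsDiffCompat (i ≫ g) d₃ d₂ df) :
    ∃ s : (Scheme.Modules.pullback (i ≫ g)).obj Ω₃ ⟶ (Scheme.Modules.pullback i).obj Ω₁, s ≫ c = df ∧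
      ∀ (V : X.Opens) (a : Γ(X, V)), s.app ((i ≫ g) ⁻¹ᵁ V) (OmegaSh.pullSect (i ≫ g) Ω₃ V (d₃.app V a)) =
        dd i d₁ (g ⁻¹ᵁ V) (g.app V a) := by
  let M := (Scheme.Modules.pushforward (i ≫ g)).obj ((Scheme.Modules.pullback i).obj Ω₁)
  let E : OmegaSh.Der pX M :=
    { d := fun {V} =>
        { toFun := fun a => dd i d₁ (g ⁻¹ᵁ V.unop) (g.app V.unop a)
          map_zero' := by rw [map_zero, map_zero]
          map_add' := fun a b => by rw [map_add, map_add] }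
      d_mul := fun {V} a b => by
        show dd i d₁ (g ⁻¹ᵁ V.unop) (g.app V.unop (a * b)) = _
        rw [map_mul, dd_mul]
        rfl
      d_map := fun {V W} j a => by
        show dd i d₁ (g ⁻¹ᵁ W.unop) (g.app W.unop (X.presheaf.map j a)) = _
        rw [show g.app W.unop (X.presheaf.map j a) =
          C.presheaf.map ((Opens.map g.base).map j.unop).op (g.app V.unop a) from congr($(g.naturality j) a)]
        exact dd_res i d₁ ((Opens.map g.base).map j.unop).le (g.app V.unop a)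
      d_app := fun {T} t => by
        show dd i d₁ (g ⁻¹ᵁ (pX ⁻¹ᵁ T.unop)) (g.app (pX ⁻¹ᵁ T.unop) (pX.app T.unop t)) = 0
        have e : g.app (pX ⁻¹ᵁ T.unop) (pX.app T.unop t) =
            p.appLE T.unop (g ⁻¹ᵁ (pX ⁻¹ᵁ T.unop)) (by rw [← hg]; rfl) t := by
          subst hg
          simp only [Scheme.Hom.appLE, CommRingCat.comp_apply]
          exact (congr($(C.presheaf.map_id _) _)).symm
        rw [e]
        exact dd_base i d₁ _ _ _ t }
  obtain ⟨α, hα, -⟩ := hd₃ M E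
  let adj := Scheme.Modules.pullbackPushforwardAdjunction (i ≫ g)
  let s := (adj.homEquiv Ω₃ _).symm α
  have hs : ∀ (V : X.Opens) (a : Γ(X, V)), s.app ((i ≫ g) ⁻¹ᵁ V) (OmegaSh.pullSect (i ≫ g) Ω₃ V (d₃.app V a)) =
      dd i d₁ (g ⁻¹ᵁ V) (g.app V a) := fun V a => by
    have h1 : ((adj.homEquiv Ω₃ _) s).app V (d₃.app V a) = dd i d₁ (g ⁻¹ᵁ V) (g.app V a) := by
      rw [Equiv.apply_symm_apply]
      exact PresheafOfModules.Derivation.congr_d hα a
    refine Eq.trans ?_ h1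
    rw [Adjunction.homEquiv_unit]
    rfl
  refine ⟨s, (adj.homEquiv Ω₃ _).injective ?_, hs⟩
  let E₂ : OmegaSh.Der pX ((Scheme.Modules.pushforward (i ≫ g)).obj Ω₂) := d₃.postcomp ((adj.homEquiv Ω₃ _) df).val
  obtain ⟨β, -, huniq⟩ := hd₃ _ E₂
  refine (huniq _ ?_).trans (huniq _ rfl).symm
  refine PresheafOfModules.Derivation.ext (funext fun V => AddMonoidHom.ext fun a => ?_)
  show ((adj.homEquiv Ω₃ _) (s ≫ c)).app V.unop (d₃.app V.unop a) =
    ((adj.homEquiv Ω₃ _) df).app V.unop (d₃.app V.unop a)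
  rw [Adjunction.homEquiv_unit, Adjunction.homEquiv_unit]
  show c.app _ (s.app ((i ≫ g) ⁻¹ᵁ V.unop) _) = df.app ((i ≫ g) ⁻¹ᵁ V.unop) _
  refine (congrArg _ (hs V.unop a)).trans ((hc (g ⁻¹ᵁ V.unop) (g.app V.unop a)).trans (Eq.trans ?_ (hdf V.unop a).symm))
  rfl

variable {φ : Omega.conormal i ⟶ (Scheme.Modules.pullback i).obj Ω₁}
  {c : (Scheme.Modules.pullback i).obj Ω₁ ⟶ Ω₂}
  {hw : φ ≫ c = 0}

theorem exists_extend (h2 : i.ker ^ 2 = ⊥) (hφ : OmegaSh.IsConormalDiff i d₁ φ)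
    (hc : OmegaSh.IsDiffCompat i d₁ d₂ c) (hS : (ShortComplex.mk φ c hw).ShortExact)
    (f : D ⟶ X) (hf : f ≫ pX = i ≫ p) [IsAffine S]
    (df : (Scheme.Modules.pullback f).obj Ω₃ ⟶ Ω₂) (hdf : OmegaSh.IsDiffCompat f d₃ d₂ df)
    (s : (Scheme.Modules.pullback f).obj Ω₃ ⟶ (Scheme.Modules.pullback i).obj Ω₁) (hs : s ≫ c = df) :
    ∃ g : C ⟶ X, i ≫ g = f ∧ g ≫ pX = p := by
  let e := (isHomeomorph i h2).homeomorph
  let β : C.toTopCat ⟶ X.toTopCat :=
    TopCat.ofHom ⟨fun y => f.base (e.symm y), f.base.hom.continuous.comp e.symm.continuous⟩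
  have hβi : ∀ x, β (i x) = f x := fun x => congrArg f.base (e.symm_apply_apply x)
  let U : X.Opens → C.Opens := fun V => (Opens.map β).obj V
  have hU : ∀ V, i ⁻¹ᵁ U V = f ⁻¹ᵁ V := fun V => Opens.ext (Set.ext fun x => by
    show β (i x) ∈ V ↔ f x ∈ V
    rw [hβi])
  let B : ∀ V : X.Opens, Γ(X, V) →+* Γ(D, i ⁻¹ᵁ U V) := fun V => (f.appLE V (i ⁻¹ᵁ U V) (hU V).le).hom
  let W : ∀ V : X.Opens, Γ(X, V) → Γ((Scheme.Modules.pullback i).obj Ω₁, i ⁻¹ᵁ U V) := fun V a =>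
    ((Scheme.Modules.pullback i).obj Ω₁).presheaf.map (homOfLE (hU V).le).op
      (s.app (f ⁻¹ᵁ V) (OmegaSh.pullSect f Ω₃ V (d₃.app V a)))
  have hcW : ∀ (V : X.Opens) (a : Γ(X, V)), c.app (i ⁻¹ᵁ U V) (W V a) = d₂.app (i ⁻¹ᵁ U V) (B V a) := fun V a => by
    show _ = d₂.app (i ⁻¹ᵁ U V) (D.presheaf.map (homOfLE (hU V).le).op (f.app V a))
    rw [app_res Ω₂ d₂, ← hdf V a, ← hs]
    exact congr($(c.mapPresheaf.naturality (homOfLE (hU V).le).op) (s.app (f ⁻¹ᵁ V) _))
  have hex := fun (V : X.Opens) (a : Γ(X, V)) => pair_surjective i h2 hφ hc hS (U V) (B V a) (W V a) (hcW V a)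
  choose G hG1 hG2 using hex
  have hinj : ∀ (V : X.Opens) (z z' : Γ(C, U V)), i.app (U V) z = i.app (U V) z' →
      dd i d₁ (U V) z = dd i d₁ (U V) z' → z = z' := fun V => pair_injective i h2 hφ hS (U V)
  have hWadd : ∀ (V : X.Opens) a b, W V (a + b) = W V a + W V b := fun V a b => by
    simp only [W, map_add]
  have hWmul : ∀ (V : X.Opens) a b, W V (a * b) = B V a • W V b + B V b • W V a := fun V a b => by
    show ((Scheme.Modules.pullback i).obj Ω₁).presheaf.map _ (s.app _ (OmegaSh.pullSect f Ω₃ V (d₃.app V (a * b)))) = _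
    rw [app_mul Ω₃ d₃, map_add, pullSect_smul f, pullSect_smul f, map_add, Scheme.Modules.Hom.app_smul,
      Scheme.Modules.Hom.app_smul, map_add, Scheme.Modules.map_smul, Scheme.Modules.map_smul]
    rfl
  have hmul : ∀ V a b, G V (a * b) = G V a * G V b := fun V a b => hinj V _ _
    (by rw [map_mul, hG1, hG1, hG1, map_mul])
    (by rw [dd_mul, hG2, hG2, hG2, hG1, hG1, hWmul])
  have hone : ∀ V, G V 1 = 1 := fun V => hinj V _ _ (by rw [hG1, map_one, map_one]) (by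
    rw [hG2, dd_one]
    have h := hWmul V 1 1
    rw [mul_one, map_one, one_smul] at h
    exact left_eq_add.1 h)
  have hzero : ∀ V, G V 0 = 0 := fun V => hinj V _ _ (by rw [hG1, map_zero, map_zero]) (by
    rw [hG2, map_zero]; simp only [W, map_zero])
  have hadd : ∀ V a b, G V (a + b) = G V a + G V b := fun V a b => hinj V _ _
    (by rw [map_add, hG1, hG1, hG1, map_add]) (by rw [map_add, hG2, hG2, hG2, hWadd])
  let GR : ∀ V : X.Opens, Γ(X, V) →+* Γ(C, U V) := fun V =>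
    { toFun := G V, map_one' := hone V, map_mul' := hmul V, map_zero' := hzero V, map_add' := hadd V }
  have hnat : ∀ {V V' : X.Opens} (h : V' ≤ V) (a : Γ(X, V)),
      G V' (X.presheaf.map (homOfLE h).op a) = C.presheaf.map (homOfLE fun y hy => h hy : U V' ⟶ U V).op (G V a) := by
    intro V V' h a
    have hle : U V' ≤ U V := fun y hy => h hy
    refine hinj V' _ _ ?_ ?_
    · rw [hG1, app_res_le i hle, hG1]
      show f.appLE V' _ _ (X.presheaf.map (homOfLE h).op a) = D.presheaf.map _ (f.appLE V _ _ a)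
      rw [← CommRingCat.comp_apply, ← CommRingCat.comp_apply, Scheme.Hom.map_appLE, Scheme.Hom.appLE_map]
    · rw [hG2, dd_res i d₁ hle, hG2]
      simp only [W]
      rw [app_res Ω₃ d₃]
      erw [show OmegaSh.pullSect f Ω₃ V' (Ω₃.presheaf.map (homOfLE h).op (d₃.app V a)) =
        ((Scheme.Modules.pullback f).obj Ω₃).presheaf.map ((Opens.map f.base).map (homOfLE h)).op
          (OmegaSh.pullSect f Ω₃ V (d₃.app V a)) from
        congr($(((Scheme.Modules.pullbackPushforwardAdjunction f).unit.app Ω₃).mapPresheaf.naturality (homOfLE h).op) _)]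
      erw [show s.app (f ⁻¹ᵁ V') (((Scheme.Modules.pullback f).obj Ω₃).presheaf.map ((Opens.map f.base).map (homOfLE h)).op
          (OmegaSh.pullSect f Ω₃ V (d₃.app V a))) =
        ((Scheme.Modules.pullback i).obj Ω₁).presheaf.map ((Opens.map f.base).map (homOfLE h)).op
          (s.app (f ⁻¹ᵁ V) (OmegaSh.pullSect f Ω₃ V (d₃.app V a))) from
        congr($(s.mapPresheaf.naturality ((Opens.map f.base).map (homOfLE h)).op) _)]
      simp only [← CategoryTheory.comp_apply, ← Functor.map_comp, Category.assoc]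
      rfl
  let P : C.toPresheafedSpace.Hom X.toPresheafedSpace :=
    { base := β
      c :=
        { app := fun V => CommRingCat.ofHom (GR V.unop)
          naturality := fun V V' j => CommRingCat.hom_ext (RingHom.ext fun a => hnat j.unop.le a) } }
  have hloc : ∀ y, IsLocalHom (P.stalkMap y).hom := by
    intro y
    obtain ⟨x, rfl⟩ := Synt29.RibbonClosed.surjective_of_sq i h2 y
    refine ⟨fun t ht => ?_⟩
    obtain ⟨V, hV, a, rfl⟩ := X.presheaf.exists_germ_eq (x := β (i x)) t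
    have hxV : f x ∈ V := hβi x ▸ hV
    have h1 := ht.map (i.stalkMap x).hom
    erw [PresheafedSpace.stalkMap_germ_apply, Scheme.Hom.germ_stalkMap_apply] at h1
    erw [show i.app (U V) (P.c.app (op V) a) = D.presheaf.map (homOfLE (hU V).le).op (f.app V a) from hG1 V a] at h1
    erw [D.presheaf.germ_res_apply] at h1
    erw [← Scheme.Hom.germ_stalkMap_apply f V x hxV a] at h1
    have h3 := isUnit_of_map_unit (f.stalkMap x).hom _ h1
    have h4 : f x ∈ X.basicOpen a := (X.mem_basicOpen _ _ hxV).2 h3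
    rw [← hβi x] at h4
    exact (X.mem_basicOpen _ _ hV).1 h4
  let g : C ⟶ X := Scheme.Hom.mk ⟨P, hloc⟩
  have hig : i ≫ g = f := by
    refine Scheme.Hom.ext (TopCat.hom_ext (ContinuousMap.ext hβi)) fun V => CommRingCat.hom_ext (RingHom.ext fun a => ?_)
    show D.presheaf.map _ (i.app (U V) (G V a)) = f.app V a
    rw [hG1]
    show D.presheaf.map _ (f.appLE V (i ⁻¹ᵁ U V) (hU V).le a) = _
    rw [Scheme.Hom.appLE, CommRingCat.comp_apply, ← CommRingCat.comp_apply, ← Functor.map_comp]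
    exact congr($(D.presheaf.map_id _) _)
  refine ⟨g, hig, ext_of_isAffine (CommRingCat.hom_ext (RingHom.ext fun t => ?_))⟩
  show g.app (pX ⁻¹ᵁ ⊤) (pX.app ⊤ t) = p.app ⊤ t
  have hle : U (pX ⁻¹ᵁ ⊤) ≤ p ⁻¹ᵁ ⊤ := fun _ _ => trivial
  refine Eq.trans (hinj (pX ⁻¹ᵁ ⊤) _ (p.appLE ⊤ (U (pX ⁻¹ᵁ ⊤)) hle t) ?_ ?_) ?_
  · refine (hG1 _ _).trans ?_
    show (pX.app ⊤ ≫ f.appLE _ _ _) t = (p.appLE _ _ hle ≫ i.app _) t
    rw [Scheme.Hom.app_eq_appLE, Scheme.Hom.app_eq_appLE, Scheme.Hom.appLE_comp_appLE, Scheme.Hom.appLE_comp_appLE]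
    have hcg : ∀ {u v : D ⟶ S} (_ : u = v) (T : S.Opens) (O : D.Opens) (e₁ : O ≤ u ⁻¹ᵁ T) (e₂ : O ≤ v ⁻¹ᵁ T),
        u.appLE T O e₁ = v.appLE T O e₂ := by
      rintro u _ rfl T O _ _; rfl
    exact congr($(hcg hf _ _ _ _) t)
  · rw [dd_base, show dd i d₁ _ (g.app (pX ⁻¹ᵁ ⊤) (pX.app ⊤ t)) = W _ (pX.app ⊤ t) from hG2 _ _]
    simp only [W]
    rw [app_base, map_zero, map_zero, map_zero]
  · rw [Scheme.Hom.appLE]
    exact congr($(C.presheaf.map_id _) _)

end Groth.Agent.Ribbon29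

end
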